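import Cfsg.Agent.H5.EvenCyclic.Outer
import Cfsg.Agent.H56.OutPSL
import Cfsg.Agent.Linear.Order

/-!
# Facts on `SL(2,F)` and the automorphisms of `PSL(2,F)` for S1240
-/

set_option autoImplicit false

namespace Cfsg.Agent.H84.QDCent

open Matrix.SpecialLinearGroup
open Cfsg.Agent.H56 (PSLn SLn semiAut glMap toP smat)
open Cfsg.Agent.H5.EvenCyclic (fldAut linAut um wm)

variable {F : Type} [Field F] [Fintype F]

theorem transvection_add {i j : Fin 2} (h : i ≠ j) (a b : F) :
    transvection h a * transvection h b = transvection h (a + b) :=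
  Subtype.ext (Matrix.transvection_mul_transvection_same (i := i) (j := j) h a b)

theorem transvection_pow {i j : Fin 2} (h : i ≠ j) (a : F) (k : ℕ) :
    transvection h a ^ k = transvection h (k * a) := by
  induction k with
  | zero => rw [pow_zero, Nat.cast_zero, zero_mul, transvection_coeff_zero]
  | succ k ih => rw [pow_succ, ih, transvection_add, Nat.cast_succ, add_one_mul]

/-- A homomorphism from `SL(2,F)`, `F` odd, to a 2-group is trivial. -/
theorem hom_two_group_trivial (hodd : Odd (Fintype.card F)) {A : Type*} [Group A]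
    (hA : IsPGroup 2 A) (f : SLn 2 F →* A) (s : SLn 2 F) : f s = 1 := by
  refine Matrix.SL2.transvection_induction (fun s => f s = 1) (fun i j h c => ?_)
    (fun a b ha hb => by rw [map_mul, ha, hb, one_mul]) s
  show f (transvection h c) = 1
  have hq : f (transvection h c) ^ Fintype.card F = 1 := by
    rw [← map_pow, transvection_pow, Nat.cast_card_eq_zero, zero_mul, transvection_coeff_zero,
      map_one]
  obtain ⟨k, hk⟩ := hA (f (transvection h c))
  have hg := Nat.dvd_gcd (orderOf_dvd_of_pow_eq_one hq) (orderOf_dvd_of_pow_eq_one hk)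
  rw [(hodd.coprime_two_right.pow_right k).gcd_eq_one, Nat.dvd_one] at hg
  exact orderOf_eq_one_iff.1 hg

/-- No subgroup of index two. -/
theorem normal_eq_top_of_isPGroup_quotient (hodd : Odd (Fintype.card F)) (M : Subgroup (SLn 2 F))
    [M.Normal] (h : IsPGroup 2 (SLn 2 F ⧸ M)) : M = ⊤ :=
  (Subgroup.eq_top_iff' M).2 fun s =>
    (QuotientGroup.eq_one_iff s).1 (hom_two_group_trivial hodd h (QuotientGroup.mk' M) s)

theorem center_sq {z : SLn 2 F} (hz : z ∈ Subgroup.center (SLn 2 F)) : z * z = 1 := by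
  obtain ⟨c, hc, hs⟩ := Matrix.SpecialLinearGroup.mem_center_iff.1 hz
  refine Subtype.ext ?_
  show (z : Matrix (Fin 2) (Fin 2) F) * z = 1
  rw [← hs, ← map_mul, ← sq]
  simp only [Fintype.card_fin] at hc
  rw [hc, map_one]

/-- An automorphism of `SL(2,F)` inducing the identity on `PSL(2,F)` is the identity. -/
theorem eq_one_of_autOf_eq_one (hodd : Odd (Fintype.card F)) (α : SLn 2 F ≃* SLn 2 F)
    (h : H56.autOf α = 1) (s : SLn 2 F) : α s = s := by
  let Z := Subgroup.center (SLn 2 F)
  have hz : ∀ s, s⁻¹ * α s ∈ Z := fun s => by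
    have e : toP (α s) = toP s := by rw [← H56.autOf_toP, h]; rfl
    exact QuotientGroup.eq.1 e.symm
  let f : SLn 2 F →* Z := MonoidHom.mk' (fun s => ⟨s⁻¹ * α s, hz s⟩) fun a b => Subtype.ext (by
    show (a * b)⁻¹ * α (a * b) = a⁻¹ * α a * (b⁻¹ * α b)
    rw [map_mul, mul_inv_rev, mul_assoc b⁻¹, ← mul_assoc a⁻¹, ← mul_assoc b⁻¹]
    rw [Subgroup.mem_center_iff.1 (hz a) b⁻¹]
    simp only [mul_assoc])
  have hp : IsPGroup 2 Z := fun z => ⟨1, Subtype.ext (by
    show ((z : SLn 2 F)) ^ 2 ^ 1 = 1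
    rw [pow_one, sq]; exact center_sq z.2)⟩
  have := congrArg Subtype.val (hom_two_group_trivial hodd hp f s)
  exact (inv_mul_eq_one.1 this).symm

/-- Automorphisms in the image of `GL` with square determinant are inner. -/
theorem linAut_eq_conj_of_det {g : GL (Fin 2) F} {c : Fˣ}
    (hc : Matrix.GeneralLinearGroup.det g = c * c) : ∃ s, linAut g = MulAut.conj (toP s) := by
  set d := g * Matrix.GeneralLinearGroup.scalar (Fin 2) c⁻¹ with hd
  have hdet : Matrix.GeneralLinearGroup.det d = 1 := by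
    have hsc : Matrix.GeneralLinearGroup.det (Matrix.GeneralLinearGroup.scalar (Fin 2) c⁻¹) =
        c⁻¹ * c⁻¹ := by
      apply Units.ext
      rw [Matrix.GeneralLinearGroup.val_det_apply, Matrix.GeneralLinearGroup.coe_scalar]
      simp [pow_two]
    rw [hd, map_mul, hc, hsc, ← mul_inv_rev, mul_inv_cancel]
  let s : SLn 2 F := ⟨(d : Matrix (Fin 2) (Fin 2) F), by
    rw [← Matrix.GeneralLinearGroup.val_det_apply, hdet, Units.val_one]⟩
  refine ⟨s, ?_⟩
  rw [← H5.EvenCyclic.linAut_toGL, show Matrix.SpecialLinearGroup.toGL s = d from Units.ext rfl, hd,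
    map_mul, H5.EvenCyclic.linAut_scalar, mul_one]

theorem exists_semi (α : MulAut (PSLn 2 F)) :
    ∃ g σ, α = linAut g * fldAut (F := F) σ := by
  obtain ⟨g, σ, h⟩ := H56.exists_decomp le_rfl α
  exact ⟨g, σ, (h.resolve_right fun h => absurd h.1 (by norm_num)).trans
    (H5.EvenCyclic.semiAut_eq g σ)⟩

theorem ringAut_comm (σ τ : RingAut F) : σ * τ = τ * σ := by
  obtain ⟨p, hp, k, hk, hcard⟩ := FiniteField.card' F
  haveI := Fact.mk hk
  obtain ⟨ε⟩ := H56.ringAut_equiv F (show 1 ≤ (k : ℕ) from k.pos) hcard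
  exact ε.injective (by rw [map_mul, map_mul, mul_comm])

/-- `σ x / x` is a square. -/
theorem exists_sq_image_div (hodd : Odd (Fintype.card F)) (σ : F ≃+* F) (d : Fˣ) :
    ∃ c : Fˣ, Units.map (σ : F →* F) d * d⁻¹ = c * c := by
  by_cases hd : IsSquare (d : F)
  · obtain ⟨c, rfl⟩ := H5.EvenCyclic.exists_sq_iff.1 hd
    exact ⟨Units.map (σ : F →* F) c * c⁻¹, by rw [map_mul, mul_inv_rev, mul_mul_mul_comm]⟩
  · refine H5.EvenCyclic.exists_sq_of_not_sq hodd (fun h => hd ?_) (fun h => hd ?_)
    · have := h.map σ.symm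
      simpa using this
    · rw [Units.val_inv_eq_inv_val] at h
      have := h.inv
      rwa [inv_inv] at this

/-- Commutators in the automorphism group of `PSL(2,F)` are inner. -/
theorem commutator_eq_conj (hodd : Odd (Fintype.card F)) (α β : MulAut (PSLn 2 F)) :
    ∃ s, α * β * α⁻¹ * β⁻¹ = MulAut.conj (toP s) := by
  obtain ⟨g, σ, rfl⟩ := exists_semi α
  obtain ⟨h, τ, rfl⟩ := exists_semi β
  have key : ∀ (a b : GL (Fin 2) F) (μ ν : RingAut F),
      linAut a * fldAut μ * (linAut b * fldAut ν) = linAut (a * glMap μ b) * fldAut (μ * ν) := by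
    intro a b μ ν
    rw [map_mul, map_mul, mul_assoc (linAut a) (linAut (glMap μ b)),
      ← mul_assoc (linAut (glMap μ b)), ← H5.EvenCyclic.fld_mul_lin, mul_assoc, mul_assoc]
  have e : linAut g * fldAut σ * (linAut h * fldAut τ) * (linAut g * fldAut σ)⁻¹ *
      (linAut h * fldAut τ)⁻¹ = linAut ((g * glMap σ h) * (h * glMap τ g)⁻¹) := by
    rw [mul_assoc (linAut g * fldAut σ * _), ← mul_inv_rev, key, key, ringAut_comm τ σ]
    simp only [map_mul, map_inv, mul_inv_rev, mul_assoc, mul_inv_cancel_left]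
  obtain ⟨c₁, h₁⟩ := exists_sq_image_div hodd σ (Matrix.GeneralLinearGroup.det h)
  obtain ⟨c₂, h₂⟩ := exists_sq_image_div hodd τ (Matrix.GeneralLinearGroup.det g)
  rw [e]
  refine linAut_eq_conj_of_det (c := c₁ * c₂⁻¹) ?_
  rw [map_mul, map_inv, map_mul, map_mul, H5.EvenCyclic.det_glMap, H5.EvenCyclic.det_glMap,
    mul_mul_mul_comm, ← h₁, ← mul_inv_rev c₂ c₂, ← h₂]
  simp only [mul_inv_rev, inv_inv]
  set x := Matrix.GeneralLinearGroup.det g
  set y := Matrix.GeneralLinearGroup.det h
  generalize (Units.map (τ : F →* F)) x = u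
  generalize (Units.map (σ : F →* F)) y = v
  exact (show ∀ a b c d : Fˣ, a * b * (c * d) = b * d * (a * c) from
    fun a b c d => by simp only [mul_comm, mul_left_comm]) _ _ _ _

/-- `SL(2,q)` is perfect for odd `q > 3`. -/
theorem commutator_eq_top (hodd : Odd (Fintype.card F)) (h3 : Fintype.card F ≠ 3) :
    commutator (SLn 2 F) = ⊤ := by
  classical
  obtain ⟨a, -, ha⟩ := Finset.exists_mem_notMem_of_card_lt_card
    (s := ({0, 1, -1} : Finset F)) (t := Finset.univ) (by
      have h1 : 1 < Fintype.card F := Fintype.one_lt_card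
      have := Finset.card_le_three (a := (0 : F)) (b := 1) (c := -1)
      rw [Finset.card_univ]
      rcases hodd with ⟨k, hk⟩
      omega)
  simp only [Finset.mem_insert, Finset.mem_singleton, not_or] at ha
  refine Matrix.SL2.commutator_eq_top ha.1 fun h => ?_
  rcases sq_eq_one_iff.1 h with h | h
  exacts [ha.2.1 h, ha.2.2 h]

theorem natCast_surj_three (h3 : Fintype.card F = 3) (c : F) : ∃ k : ℕ, (k : F) = c := by
  obtain ⟨r, hr⟩ := CharP.exists F
  obtain ⟨n, hp, hn⟩ := FiniteField.card F r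
  have hr3 : r = 3 := by
    have h : r ∣ 3 := h3 ▸ hn ▸ dvd_pow_self r n.pos.ne'
    exact (Nat.prime_dvd_prime_iff_eq hp Nat.prime_three).1 h
  subst hr3
  haveI : Fact (Nat.Prime 3) := ⟨Nat.prime_three⟩
  have hb : Function.Bijective (ZMod.castHom (dvd_refl 3) F) :=
    (Fintype.bijective_iff_injective_and_card _).2
      ⟨(ZMod.castHom (dvd_refl 3) F).injective, by rw [ZMod.card, h3]⟩
  obtain ⟨i, rfl⟩ := hb.2 c
  exact ⟨i.val, by rw [ZMod.castHom_apply, ← ZMod.natCast_val]⟩

theorem transvection_eq_um : transvection (zero_ne_one : (0 : Fin 2) ≠ 1) (1 : F) = um F := by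
  refine Subtype.ext ?_
  ext i j
  rw [transvection_coe]
  fin_cases i <;> fin_cases j <;> simp [um, Matrix.single]

/-- A normal subgroup of `SL(2,3)` containing `um` is everything. -/
theorem eq_top_of_um (h3 : Fintype.card F = 3) (M : Subgroup (SLn 2 F)) [hM : M.Normal]
    (hum : um F ∈ M) : M = ⊤ := by
  have hupper : ∀ c : F, transvection (zero_ne_one : (0 : Fin 2) ≠ 1) c ∈ M := by
    intro c
    obtain ⟨k, rfl⟩ := natCast_surj_three h3 c
    rw [← mul_one (k : F), ← transvection_pow, transvection_eq_um]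
    exact pow_mem hum k
  have hlower : ∀ c : F, transvection (one_ne_zero : (1 : Fin 2) ≠ 0) c ∈ M := by
    intro c
    have e : transvection (one_ne_zero : (1 : Fin 2) ≠ 0) c =
        wm F * transvection (zero_ne_one : (0 : Fin 2) ≠ 1) (-c) * (wm F)⁻¹ := by
      rw [eq_mul_inv_iff_mul_eq]
      refine Subtype.ext ?_
      show (transvection (one_ne_zero : (1 : Fin 2) ≠ 0) c : Matrix (Fin 2) (Fin 2) F) * smat (wm F) =
        smat (wm F) * (transvection (zero_ne_one : (0 : Fin 2) ≠ 1) (-c) : Matrix (Fin 2) (Fin 2) F)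
      rw [H5.EvenCyclic.wm_coe, transvection_coe, transvection_coe]
      ext i j
      fin_cases i <;> fin_cases j <;> simp [Matrix.mul_apply, Fin.sum_univ_two, Matrix.single]
    rw [e]
    exact hM.conj_mem _ (hupper _) _
  refine (Subgroup.eq_top_iff' M).2 fun s => ?_
  refine Matrix.SL2.transvection_induction (· ∈ M) (fun i j h c => ?_) (fun a b => mul_mem) s
  fin_cases i
  · obtain rfl : j = 1 := by fin_cases j <;> tauto
    exact hupper c
  · obtain rfl : j = 0 := by fin_cases j <;> tauto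
    exact hlower c

/-- A non-inner automorphism of `PSL(2,3)` is a diagonal one up to an inner one. -/
theorem exists_dgl (hodd : Odd (Fintype.card F)) (h3 : Fintype.card F = 3)
    (α : MulAut (PSLn 2 F)) (h : ∀ s, α ≠ MulAut.conj (toP s)) :
    ∃ s, α = MulAut.conj (toP s) * linAut (H5.EvenCyclic.dgl F (-1)) := by
  obtain ⟨g, σ, rfl⟩ := exists_semi α
  have hσ : σ = 1 := by
    refine RingEquiv.ext fun c => ?_
    obtain ⟨k, rfl⟩ := natCast_surj_three h3 c
    exact map_natCast σ k
  subst hσ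
  rw [map_one, mul_one] at h ⊢
  have hd : ((Matrix.GeneralLinearGroup.det g : Fˣ) : F) = -1 := by
    obtain ⟨k, hk⟩ := natCast_surj_three h3 ((Matrix.GeneralLinearGroup.det g : Fˣ) : F)
    have h30 : ((3 : ℕ) : F) = 0 := by rw [← h3, Nat.cast_card_eq_zero]
    rw [← Nat.div_add_mod k 3, Nat.cast_add, Nat.cast_mul, h30, zero_mul, zero_add] at hk
    have : k % 3 = 0 ∨ k % 3 = 1 ∨ k % 3 = 2 := by omega
    rcases this with e | e | e <;> rw [e] at hk
    · exact absurd hk.symm (by rw [Nat.cast_zero]; exact Units.ne_zero _)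
    · obtain ⟨s, hs⟩ := linAut_eq_conj_of_det (g := g) (c := 1)
        (Units.ext (by rw [← hk]; simp))
      exact absurd hs (h s)
    · rw [← hk]
      push_cast at h30 ⊢
      linear_combination h30
  obtain ⟨s, hs⟩ := linAut_eq_conj_of_det (g := g * (H5.EvenCyclic.dgl F (-1))⁻¹) (c := 1) (by
    rw [map_mul, map_inv, H5.EvenCyclic.det_dgl]
    apply Units.ext
    simp [hd])
  exact ⟨s, by rw [← hs, ← map_mul, inv_mul_cancel_right]⟩

theorem linAut_dgl_um :
    linAut (H5.EvenCyclic.dgl F (-1)) (toP (um F)) = toP (um F)⁻¹ := by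
  rw [H5.EvenCyclic.linAut_apply, H56.semiAut_toP]
  congr 1
  refine Subtype.ext ?_
  show smat (H56.semiSL _ _ (um F)) = smat (um F)⁻¹
  rw [H56.smat_semiSL, ← map_inv, H5.EvenCyclic.dgl_coe, H5.EvenCyclic.dgl_coe,
    H5.EvenCyclic.um_coe]
  have : smat (um F)⁻¹ = !![(1 : F), -1; 0, 1] := by
    rw [smat, Matrix.SpecialLinearGroup.coe_inv, ← smat, H5.EvenCyclic.um_coe,
      Matrix.adjugate_fin_two_of]
    simp
  rw [this]
  ext i j
  fin_cases i <;> fin_cases j <;> simp [Matrix.mul_apply, Fin.sum_univ_two]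

theorem card_psl_three (h3 : Fintype.card F = 3) : Nat.card (PSLn 2 F) = 12 := by
  have := Linear.card_PSL_two_mul (F := F)
  rw [h3] at this
  norm_num at this
  show Nat.card (Matrix.ProjectiveSpecialLinearGroup (Fin 2) F) = 12
  omega

/-- A 2-group of order dividing 12 is abelian. -/
theorem two_group_comm {R : Type*} [Group R] [Finite R] (hR : IsPGroup 2 R)
    (hd : Nat.card R ∣ 12) (a b : R) : a * b = b * a := by
  haveI : Fact (Nat.Prime 2) := ⟨Nat.prime_two⟩
  obtain ⟨k, hk⟩ := hR.exists_card_eq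
  rw [hk] at hd
  have hk2 : k ≤ 2 := by
    by_contra hh
    have := (pow_dvd_pow 2 (show 3 ≤ k by omega)).trans hd
    norm_num at this
  obtain rfl | rfl | rfl : k = 0 ∨ k = 1 ∨ k = 2 := by omega
  · haveI : Subsingleton R := (Nat.card_eq_one_iff_unique.1 hk).1
    exact Subsingleton.elim _ _
  · haveI : IsCyclic R := isCyclic_of_prime_card hk
    exact mul_comm' a b
  · exact IsPGroup.commutative_of_card_eq_prime_sq (p := 2) hk a b

end Cfsg.Agent.H84.QDCent
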