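import Cfsg.Agent.H84.QDCent.TwoGroup
import Cfsg.Agent.H84.QDCent.SLTwo
import Cfsg.Agent.H4.GW.AutShape
import Cfsg.Agent.H63.GW.Shape
import Cfsg.Agent.Cores.PCore

/-!
# The derived group of an involution centralizer modulo its core in quasi-dihedral type groups

`derived_eq`: a core-free group with a normal subgroup of 2-power index with quaternion Sylow
2-subgroups, quasi-dihedral or wreathed Sylow 2-subgroups and a normal `SL(2,F)` has this as its
derived group.
-/

set_option autoImplicit false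

namespace Cfsg.Agent.H84.QDCent

open Subgroup
open scoped commutatorElement
open Cfsg.Agent.H56 (PSLn SLn toP smat)
open Cfsg.Agent.H5.EvenCyclic (um wm linAut)

universe u

/-- Two elements of order four of `SL(2,F)` generating a quaternion group of order 8. -/
theorem exists_quaternion_pair (F : Type) [Field F] [Fintype F] (hodd : Odd (Fintype.card F)) :
    ∃ (a b : SLn 2 F) (D : Subgroup (SLn 2 F)), IsPGroup 2 D ∧ a ∈ D ∧ b ∈ D ∧ ¬ Commute a b ∧
      a * a ≠ 1 ∧ a * a * (a * a) = 1 := by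
  haveI : Fact (Nat.Prime 2) := ⟨Nat.prime_two⟩
  have h2 : (2 : F) ≠ 0 := H4.GW.two_ne hodd
  obtain ⟨p, q, hpq⟩ := H27.QuaternionSylow.exists_sq_add_sq hodd (F := F)
  let s : SLn 2 F := ⟨!![p, q; q, -p], by rw [Matrix.det_fin_two_of]; linear_combination -hpq⟩
  have hs : smat s = !![p, q; q, -p] := rfl
  have hanti : (smat s) * smat (wm F) = (-1 : F) • (smat (wm F) * smat s) := by
    rw [hs, H5.EvenCyclic.wm_coe]
    ext i j
    fin_cases i <;> fin_cases j <;> simp [Matrix.mul_apply, Fin.sum_univ_two]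
  have hc : Commute (toP (wm F)) (toP s) := by
    show toP (wm F) * toP s = toP s * toP (wm F)
    rw [← map_mul, ← map_mul]
    exact H56.toP_eq_iff.2 ⟨-1, by ring, hanti⟩
  have hnc : ¬ Commute (wm F) s := by
    intro h
    have h' : smat (wm F) * smat s = smat s * smat (wm F) := congrArg Subtype.val h.eq
    rw [hs, H5.EvenCyclic.wm_coe] at h'
    have e00 := congrFun (congrFun h' 0) 0
    have e01 := congrFun (congrFun h' 0) 1
    simp [Matrix.mul_apply, Fin.sum_univ_two] at e00 e01
    have hq : q = 0 := mul_left_cancel₀ h2 (by linear_combination e00)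
    have hp : p = 0 := mul_left_cancel₀ h2 (by linear_combination -e01)
    rw [hp, hq] at hpq
    simp at hpq
  have hw : toP (wm F) * toP (wm F) = 1 := by
    rw [← pow_two]
    exact orderOf_dvd_iff_pow_eq_one.1 (dvd_of_eq (H5.EvenCyclic.toP_wm_order hodd))
  have hw1 : toP (wm F) ≠ 1 := fun h => by
    have := H5.EvenCyclic.toP_wm_order (F := F) hodd
    rw [h, orderOf_one] at this
    norm_num at this
  have hs2 : toP s * toP s = 1 := by
    rw [← map_mul, ← map_one (toP (n := 2) (F := F))]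
    refine H56.toP_eq_iff.2 ⟨-1, by ring, ?_⟩
    show smat (1 : SLn 2 F) = (-1 : F) • (smat s * smat s)
    rw [hs]
    ext i j
    fin_cases i <;> fin_cases j <;> simp [smat] <;> first | linear_combination hpq | ring1
  have hs1 : toP s ≠ 1 := fun h => hnc (by
    have hz : s ∈ center (SLn 2 F) := (QuotientGroup.eq_one_iff s).1 h
    exact Subgroup.mem_center_iff.1 hz (wm F))
  have hne : toP (wm F) ≠ toP s := fun h => hnc (by
    have hz : (wm F)⁻¹ * s ∈ center (SLn 2 F) := QuotientGroup.eq.1 h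
    have := Subgroup.mem_center_iff.1 hz (wm F)
    rw [mul_inv_cancel_left, mul_assoc] at this
    show wm F * s = s * wm F
    calc wm F * s = wm F * ((wm F)⁻¹ * (s * wm F)) := congrArg (wm F * ·) this
      _ = s * wm F := mul_inv_cancel_left _ _)
  obtain ⟨V, hV, hVeq⟩ := H4.GW.exists_klein hw hs2 hc hw1 hs1 hne
  have hVp : IsPGroup 2 V := IsPGroup.of_card (n := 2) (by rw [hV.card_four]; norm_num)
  have hker : IsPGroup 2 (toP : SLn 2 F →* PSLn 2 F).ker := fun x => ⟨1, Subtype.ext (by
    show (x : SLn 2 F) ^ 2 ^ 1 = 1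
    rw [pow_one, sq]
    exact center_sq ((QuotientGroup.eq_one_iff _).1 x.2))⟩
  refine ⟨wm F, s, V.comap toP, hVp.comap_of_ker_isPGroup toP hker, ?_, ?_, hnc, ?_,
    center_sq ((QuotientGroup.eq_one_iff _).1 ((map_mul toP (wm F) (wm F)).trans hw))⟩
  · show toP (wm F) ∈ (V : Set (PSLn 2 F)); rw [hVeq]; simp
  · show toP s ∈ (V : Set (PSLn 2 F)); rw [hVeq]; simp
  · intro h
    have h' : smat (wm F) * smat (wm F) = 1 := congrArg Subtype.val h
    rw [H5.EvenCyclic.wm_coe] at h'
    have e00 := congrFun (congrFun h' 0) 0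
    simp [Matrix.mul_apply, Fin.sum_univ_two] at e00
    exact h2 (by linear_combination -e00)

variable {H : Type u} [Group H] [Finite H]

theorem commute_quotient (T : Sylow 2 H)
    (hT : ∃ B : Subgroup ↥(T : Subgroup H), IsMulCommutative B ∧ B.index = 2)
    (K : Subgroup H) [K.Normal] (hK : IsPGroup 2 (H ⧸ K)) {a b : H} (ha : a ∈ (T : Subgroup H))
    (hb : b ∈ (T : Subgroup H)) (haK : a ∈ K) (hbK : b ∈ K) (hab : ¬ Commute a b) (q r : H ⧸ K) :
    q * r = r * q := by
  haveI : Fact (Nat.Prime 2) := ⟨Nat.prime_two⟩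
  obtain ⟨B, hB, hB2⟩ := hT
  haveI := hB
  obtain ⟨d, hdB, hdK⟩ : ∃ d : ↥(T : Subgroup H), d ∉ B ∧ (d : H) ∈ K := by
    by_contra! h
    have hA : (⟨a, ha⟩ : ↥(T : Subgroup H)) ∈ B := by
      by_contra h'; exact h _ h' haK
    have hB' : (⟨b, hb⟩ : ↥(T : Subgroup H)) ∈ B := by
      by_contra h'; exact h _ h' hbK
    exact hab (congrArg (fun x : B => ((x : ↥(T : Subgroup H)) : H))
      (mul_comm' (⟨_, hA⟩ : B) ⟨_, hB'⟩))
  have htop : ((T.mapSurjective (f := QuotientGroup.mk' K) (QuotientGroup.mk'_surjective K)) :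
      Subgroup (H ⧸ K)) = ⊤ := by
    let P := T.mapSurjective (f := QuotientGroup.mk' K) (QuotientGroup.mk'_surjective K)
    exact (P.is_maximal' (hK.to_subgroup ⊤) le_top).symm
  have key : ∀ q : H ⧸ K, ∃ x : B, q = QuotientGroup.mk' K ((x : ↥(T : Subgroup H)) : H) := by
    intro q
    obtain ⟨t, ht, rfl⟩ : q ∈ (T : Subgroup H).map (QuotientGroup.mk' K) := by
      rw [← Sylow.coe_mapSurjective (QuotientGroup.mk'_surjective K), htop]; trivial
    by_cases h : (⟨t, ht⟩ : ↥(T : Subgroup H)) ∈ B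
    · exact ⟨⟨_, h⟩, rfl⟩
    · refine ⟨⟨⟨t, ht⟩ * d, (mul_mem_iff_of_index_two hB2).2 (iff_of_false h hdB)⟩, ?_⟩
      show QuotientGroup.mk' K t = QuotientGroup.mk' K (t * d)
      rw [map_mul, show QuotientGroup.mk' K (d : H) = 1 from (QuotientGroup.eq_one_iff _).2 hdK,
        mul_one]
  obtain ⟨x, rfl⟩ := key q
  obtain ⟨y, rfl⟩ := key r
  rw [← map_mul, ← map_mul]
  exact congrArg (fun x : B => QuotientGroup.mk' K ((x : ↥(T : Subgroup H)) : H)) (mul_comm' x y)

section action

variable {F : Type} [Field F] [Fintype F] (L : Subgroup H) [L.Normal] (e : ↥L ≃* SLn 2 F)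

/-- Conjugation on `PSL(2,F)`. -/
noncomputable def act : H →* MulAut (PSLn 2 F) :=
  MonoidHom.mk' (fun h => H56.autOf ((e.symm.trans (MulAut.conjNormal h)).trans e)) fun a b => by
    rw [← H56.autOf_trans]
    congr 1
    refine MulEquiv.ext fun s => ?_
    show e (MulAut.conjNormal (a * b) (e.symm s)) =
      e (MulAut.conjNormal a (e.symm (e (MulAut.conjNormal b (e.symm s)))))
    rw [e.symm_apply_apply, map_mul]
    rfl

theorem act_apply (h : H) (s : SLn 2 F) :
    act L e h (toP s) = toP (e (MulAut.conjNormal h (e.symm s))) := rfl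

theorem act_symm (s : SLn 2 F) : act L e ((e.symm s : ↥L) : H) = MulAut.conj (toP s) := by
  refine MulEquiv.ext fun x => ?_
  obtain ⟨t, rfl⟩ := H56.toP_surjective x
  rw [act_apply, MulAut.conj_apply, ← map_inv, ← map_mul, ← map_mul]
  congr 1
  rw [← e.symm.injective.eq_iff, e.symm_apply_apply, map_mul, map_mul, map_inv]
  exact Subtype.ext (MulAut.conjNormal_apply _ _)

theorem commute_of_act_eq_one (hodd : Odd (Fintype.card F)) {h : H} (hh : act L e h = 1) (l : ↥L) :
    Commute h (l : H) := by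
  have := eq_one_of_autOf_eq_one hodd ((e.symm.trans (MulAut.conjNormal h)).trans e) hh (e l)
  have h' : MulAut.conjNormal h l = l := by
    have := e.injective (show e (MulAut.conjNormal h (e.symm (e l))) = e l from this)
    rwa [e.symm_apply_apply] at this
  have h'' := congrArg Subtype.val h'
  rw [MulAut.conjNormal_apply] at h''
  exact mul_inv_eq_iff_eq_mul.1 h''

end action

/-- The derived group is the normal `SL(2,F)`. -/
theorem derived_eq (S : Sylow 2 H)
    (hS : Cfsg.IsQuasiDihedral (S : Subgroup H) ∨ Cfsg.IsWreathed (S : Subgroup H))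
    (hO : Cfsg.oddCore H = ⊥) (K : Subgroup H) [K.Normal] (n : ℕ) (hKi : K.index = 2 ^ n)
    (hKq : ∀ P : Sylow 2 ↥K, ∃ m : ℕ, 1 ≤ m ∧
      Nonempty ((P : Subgroup ↥K) ≃* QuaternionGroup (2 ^ m)))
    (L : Subgroup H) [hLn : L.Normal] {F : Type} [Field F] [Fintype F]
    (hodd : Odd (Fintype.card F)) (e : ↥L ≃* SLn 2 F) : commutator H = L := by
  classical
  haveI : Fact (Nat.Prime 2) := ⟨Nat.prime_two⟩
  let ι : SLn 2 F →* H := L.subtype.comp e.symm.toMonoidHom
  have hι : Function.Injective ι := L.subtype_injective.comp e.symm.injective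
  have hιL : ∀ s, ι s ∈ L := fun s => (e.symm s).2
  have hιe : ∀ l : ↥L, ι (e l) = l := fun l => congrArg Subtype.val (e.symm_apply_apply l)
  have hKp : IsPGroup 2 (H ⧸ K) := IsPGroup.of_card (n := n) hKi
  have hLK : L ≤ K := fun x hx => (QuotientGroup.eq_one_iff x).1 (by
    have := hom_two_group_trivial hodd hKp ((QuotientGroup.mk' K).comp ι) (e ⟨x, hx⟩)
    rw [MonoidHom.comp_apply, hιe] at this
    exact this)
  obtain ⟨a, b, D, hD, ha, hb, hnab, haa, ha4⟩ := exists_quaternion_pair F hodd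
  have hDp : IsPGroup 2 (D.map ι) := hD.map ι
  obtain ⟨T, hDT⟩ := hDp.exists_le_sylow
  have hab' : ¬ Commute (ι a) (ι b) := fun h => hnab (hι (by rw [map_mul, map_mul]; exact h.eq))
  obtain ⟨⟨B, hB, hB2⟩, cx, cy, hcomm⟩ := abelian_and_commutator hS
  let eST := S.equiv T
  have hBT : ∃ B : Subgroup ↥(T : Subgroup H), IsMulCommutative B ∧ B.index = 2 := by
    refine ⟨B.map eST.toMonoidHom, ?_, ?_⟩
    · haveI := hB; infer_instance
    · rw [Subgroup.index_map_of_bijective eST.bijective, hB2]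
  have hKc : ∀ x y : H, x * y * x⁻¹ * y⁻¹ ∈ K := fun x y => by
    have hq := commute_quotient T hBT K hKp (hDT (mem_map_of_mem ι ha)) (hDT (mem_map_of_mem ι hb))
      (hLK (hιL a)) (hLK (hιL b)) hab' (x : H ⧸ K) (y : H ⧸ K)
    refine (QuotientGroup.eq_one_iff _).1 ?_
    rw [QuotientGroup.mk_mul, QuotientGroup.mk_mul, QuotientGroup.mk_mul, QuotientGroup.mk_inv,
      QuotientGroup.mk_inv, hq, mul_inv_cancel_right, mul_inv_cancel]
  -- the centraliser of `L` in `K`
  let N : Subgroup H := (act L e).ker ⊓ K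
  have hNc : ∀ x : ↥N, ∀ s : SLn 2 F, Commute (x : H) (ι s) := fun x s =>
    commute_of_act_eq_one L e hodd (MonoidHom.mem_ker.1 x.2.1) (e.symm s)
  have hinv : ∀ P : Sylow 2 ↥N, ∀ u : ↥N, u ∈ (P : Subgroup ↥N) → u ≠ 1 →
      (u : H) = ι a * ι a := by
    intro P u hu hu1
    let P' : Subgroup H := (P : Subgroup ↥N).map N.subtype
    have hnorm : D.map ι ≤ normalizer (P' : Set H) := by
      refine le_trans ?_ (centralizer_le_normalizer _)
      rintro _ ⟨s, -, rfl⟩
      refine mem_centralizer_iff.2 ?_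
      rintro _ ⟨x, -, rfl⟩
      exact (hNc x s).eq
    have hp : IsPGroup 2 ↥(D.map ι ⊔ P') := hDp.to_sup_of_normal_right' (P.isPGroup'.map _) hnorm
    have hle : D.map ι ⊔ P' ≤ K := sup_le
      (by rintro _ ⟨s, -, rfl⟩; exact hLK (hιL s)) (by rintro _ ⟨x, -, rfl⟩; exact x.2.2)
    obtain ⟨Q, hQ⟩ := (hp.comap_of_injective K.subtype K.subtype_injective).exists_le_sylow
    obtain ⟨m, -, ⟨φ⟩⟩ := hKq Q
    haveI : NeZero (2 ^ m) := ⟨by positivity⟩
    have hmem : ∀ x ∈ D.map ι ⊔ P', ∃ q : (Q : Subgroup ↥K), ((q : ↥K) : H) = x := fun x hx =>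
      ⟨⟨⟨x, hle hx⟩, hQ hx⟩, rfl⟩
    obtain ⟨qa, hqa⟩ := hmem _ (mem_sup_left (mem_map_of_mem ι ha))
    obtain ⟨qb, hqb⟩ := hmem _ (mem_sup_left (mem_map_of_mem ι hb))
    obtain ⟨qu, hqu⟩ := hmem (u : H) (mem_sup_right ⟨u, hu, rfl⟩)
    let j : (Q : Subgroup ↥K) →* H := K.subtype.comp (Q : Subgroup ↥K).subtype
    have hj : Function.Injective j := K.subtype_injective.comp (Q : Subgroup ↥K).subtype_injective
    have hcu : ∀ (q : ↥(Q : Subgroup ↥K)) (s : SLn 2 F), ((q : ↥K) : H) = ι s →
        Commute (φ qu) (φ q) := fun q s hq =>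
      Commute.map (show Commute qu q from hj (by
        rw [map_mul, map_mul]
        show ((qu : ↥K) : H) * ((q : ↥K) : H) = ((q : ↥K) : H) * ((qu : ↥K) : H)
        rw [hqu, hq]; exact (hNc u s).eq)) φ
    have hn : ¬ Commute (φ qa) (φ qb) := fun h => hab' (by
      have := congrArg j (φ.injective (show φ (qa * qb) = φ (qb * qa) by
        rw [map_mul, map_mul]; exact h.eq))
      rw [map_mul, map_mul] at this
      rw [← hqa, ← hqb]; exact this)
    have h1 := quaternion_sq_eq_one (hcu qa a hqa) (hcu qb b hqb) hn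
    have hqa1 : φ qa * φ qa ≠ 1 := fun h => haa (hι (by
      have := congrArg j (φ.injective (show φ (qa * qa) = φ 1 by rw [map_mul, map_one]; exact h))
      rw [map_mul, map_one] at this
      rw [map_mul, map_one, ← hqa]; exact this))
    have ht : φ qa * φ qa * (φ qa * φ qa) = 1 := by
      rw [← map_mul, ← map_mul, ← map_one φ]
      refine congrArg φ (hj ?_)
      rw [map_mul, map_mul, map_one]
      show ((qa : ↥K) : H) * ((qa : ↥K) : H) * (((qa : ↥K) : H) * ((qa : ↥K) : H)) = 1
      rw [hqa, ← map_mul, ← map_mul, ha4, map_one]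
    have hu' : φ qu ≠ 1 := fun h => hu1 (Subtype.ext (by
      have := congrArg j (φ.injective (h.trans (map_one φ).symm))
      rw [map_one] at this
      rw [← hqu]; exact this))
    have h2 := quaternion_involution_unique h1 ht hu' hqa1
    rw [← map_mul] at h2
    have := congrArg j (φ.injective h2)
    rw [map_mul] at this
    rw [← hqu, ← hqa]; exact this
  have hNL : N ≤ L := by
    have hcyc : ∀ P : Sylow 2 ↥N, IsCyclic ↥(P : Subgroup ↥N) := by
      intro P
      by_cases h : ∃ u : ↥(P : Subgroup ↥N), u ≠ 1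
      · obtain ⟨u, hu⟩ := h
        refine ⟨⟨u, fun v => ?_⟩⟩
        rcases eq_or_ne v 1 with rfl | hv
        · exact ⟨0, zpow_zero _⟩
        · refine ⟨1, ?_⟩
          show u ^ (1 : ℤ) = v
          rw [zpow_one]
          refine Subtype.ext (Subtype.ext ?_)
          rw [hinv P _ u.2 (fun h' => hu (Subtype.ext h')),
            hinv P _ v.2 (fun h' => hv (Subtype.ext h'))]
      · push Not at h
        exact ⟨⟨1, fun v => ⟨0, by rw [h v]; exact zpow_zero _⟩⟩⟩
    have hON : Cfsg.oddCore ↥N = ⊥ := by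
      have h := Cores.map_pPrimeCore_le_of_normal (p := 2) N
      rw [show Cfsg.pPrimeCore 2 H = ⊥ from hO, le_bot_iff] at h
      exact (map_eq_bot_iff_of_injective _ N.subtype_injective).1 h
    obtain ⟨P⟩ : Nonempty (Sylow 2 ↥N) := inferInstance
    haveI := hcyc P
    have hp := H63.GW.isPGroup_of_complement hON (H63.GW.hasNormalPComplement_of_cyclic P)
    have hPtop : (P : Subgroup ↥N) = ⊤ := (P.is_maximal' (hp.to_subgroup ⊤) le_top).symm
    intro x hx
    rcases eq_or_ne (⟨x, hx⟩ : ↥N) 1 with h | h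
    · rw [show x = 1 from congrArg Subtype.val h]; exact one_mem _
    · rw [show x = ι a * ι a from hinv P ⟨x, hx⟩ (hPtop ▸ mem_top _) h]
      exact mul_mem (hιL a) (hιL a)
  have hle : commutator H ≤ L := by
    rw [_root_.commutator_def, commutator_le]
    intro x _ y _
    obtain ⟨s, hs⟩ := commutator_eq_conj hodd (act L e x) (act L e y)
    rw [commutatorElement_def]
    set c := x * y * x⁻¹ * y⁻¹
    have hw : (ι s)⁻¹ * c ∈ N := by
      refine Subgroup.mem_inf.2 ⟨?_, mul_mem (inv_mem (hLK (hιL s))) (hKc x y)⟩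
      rw [MonoidHom.mem_ker, map_mul, map_inv, map_mul, map_mul, map_mul, map_inv,
        map_inv, hs, show act L e (ι s) = MulAut.conj (toP s) from act_symm L e s, inv_mul_cancel]
    have := mul_mem (hιL s) (hNL hw)
    rwa [mul_inv_cancel_left] at this
  refine le_antisymm hle ?_
  by_cases h3 : Fintype.card F = 3
  swap
  · intro x hx
    have h1 : e ⟨x, hx⟩ ∈ commutator (SLn 2 F) := by
      rw [commutator_eq_top hodd h3]; exact mem_top _
    have h2 := mem_map_of_mem ι h1
    rw [hιe, _root_.commutator_def, map_commutator] at h2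
    exact commutator_mono le_top le_top h2
  · let M : Subgroup (SLn 2 F) := (commutator H).comap ι
    have hum3 : um F ^ 3 = 1 := by
      rw [← transvection_eq_um, transvection_pow, ← h3, Nat.cast_card_eq_zero, zero_mul,
        Matrix.SpecialLinearGroup.transvection_coeff_zero]
    by_cases hall : ∀ h : H, ∃ s, act L e h = MulAut.conj (toP s)
    · exfalso
      apply hcomm
      set c := cx * cy * cx⁻¹ * cy⁻¹ with hcdef
      let A : Subgroup (MulAut (PSLn 2 F)) := (S : Subgroup H).map (act L e)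
      have hA : A ≤ (MulAut.conj (G := PSLn 2 F)).range := by
        rintro _ ⟨h, -, rfl⟩
        obtain ⟨s, hs⟩ := hall h
        exact ⟨_, hs.symm⟩
      have hd : Nat.card A ∣ 12 := by
        refine (card_dvd_of_le hA).trans ?_
        have := card_range_dvd (MulAut.conj (G := PSLn 2 F))
        rwa [card_psl_three h3] at this
      have hcA := two_group_comm (S.isPGroup'.map (act L e)) hd
        ⟨_, mem_map_of_mem (act L e) cx.2⟩ ⟨_, mem_map_of_mem (act L e) cy.2⟩
      have hcN : (c : H) ∈ N := by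
        refine Subgroup.mem_inf.2 ⟨?_, hKc (cx : H) (cy : H)⟩
        have h' : act L e (cx : H) * act L e (cy : H) = act L e (cy : H) * act L e (cx : H) :=
          congrArg Subtype.val hcA
        show act L e ((cx : H) * (cy : H) * (cx : H)⁻¹ * (cy : H)⁻¹) = 1
        rw [map_mul, map_mul, map_mul, map_inv, map_inv, h', mul_inv_cancel_right, mul_inv_cancel]
      have hcz : e ⟨c, hNL hcN⟩ ∈ center (SLn 2 F) := by
        refine Subgroup.mem_center_iff.2 fun s => hι ?_
        rw [map_mul, map_mul, hιe]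
        exact (hNc ⟨c, hcN⟩ s).eq.symm
      have := congrArg ι (center_sq hcz)
      rw [map_mul, map_one, hιe] at this
      exact Subtype.ext this
    · push Not at hall
      obtain ⟨h, hh⟩ := hall
      obtain ⟨s, hs⟩ := exists_dgl hodd h3 (act L e h) hh
      set h' := (ι s)⁻¹ * h
      have hact : act L e h' = linAut (H5.EvenCyclic.dgl F (-1)) := by
        rw [map_mul, map_inv, show act L e (ι s) = MulAut.conj (toP s) from act_symm L e s, hs,
          inv_mul_cancel_left]
      let y : SLn 2 F := e (MulAut.conjNormal h' (e.symm (um F))) * (um F)⁻¹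
      have hyM : y ∈ M := by
        show ι y ∈ commutator H
        rw [map_mul, map_inv, hιe, MulAut.conjNormal_apply, _root_.commutator_def]
        show ⁅h', ι (um F)⁆ ∈ _
        exact commutator_mem_commutator (mem_top _) (mem_top _)
      have hy : toP y = toP (um F) := by
        rw [map_mul, ← act_apply, hact, linAut_dgl_um, ← map_mul]
        congr 1
        rw [← mul_inv_rev, inv_eq_iff_mul_eq_one, mul_assoc, ← pow_three, hum3]
      have hz : (um F)⁻¹ * y ∈ center (SLn 2 F) := QuotientGroup.eq.1 hy.symm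
      have hum : um F ∈ M := by
        have e4 : y ^ 4 = um F := by
          conv_lhs => rw [← mul_inv_cancel_left (um F) y]
          have hc' : Commute (um F) ((um F)⁻¹ * y) := Subgroup.mem_center_iff.1 hz (um F)
          rw [hc'.mul_pow, show (4 : ℕ) = 2 + 2 from rfl, pow_add ((um F)⁻¹ * y), sq, center_sq hz,
            one_mul, mul_one, show 2 + 2 = 3 + 1 from rfl, pow_succ, hum3, one_mul]
        exact e4 ▸ pow_mem hyM 4
      intro x hx
      have h1 : e ⟨x, hx⟩ ∈ M := by rw [eq_top_of_um h3 M hum]; exact mem_top _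
      have h2 : ι (e ⟨x, hx⟩) ∈ commutator H := h1
      rwa [hιe] at h2

end Cfsg.Agent.H84.QDCent
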