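import Cfsg.Agent.H84.QDCent.Centralizer
import Cfsg.Agent.H71.QGroup.Row

/-!
# S1240 from the dihedral statement
-/

set_option autoImplicit false

namespace Cfsg.Agent.H84.QDCent

universe u

/-- The row S1240, given `H80.GW.DihedralStatement`. -/
theorem main_of_dihedral (hGW : H80.GW.DihedralStatement.{u}) {G : Type u} [Group G] [Finite G] (S : Sylow 2 G)
    (hS : Cfsg.IsQuasiDihedral (S : Subgroup G) ∨ Cfsg.IsWreathed (S : Subgroup G))
    (hG : ∀ H : Subgroup G, H.index ≠ 2) (t : G) (ht : orderOf t = 2) :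
    ∃ (F : Type) (_ : Field F) (_ : Fintype F), Odd (Fintype.card F) ∧
      Nonempty (↥(commutator (↥(Subgroup.centralizer ({t} : Set G)) ⧸
        Cfsg.oddCore ↥(Subgroup.centralizer ({t} : Set G)))) ≃* Matrix.SpecialLinearGroup (Fin 2) F) :=
  main (fun H _ _ R hR hO hQ =>
    let ⟨L, h1, h2, _⟩ := H71.QGroup.row_of_dihedral hGW R hR hO hQ
    ⟨L, h1, h2⟩) S hS hG t ht

end Cfsg.Agent.H84.QDCent
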