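import Cfsg.Agent.H84.QDCent.Main
import Cfsg.Agent.S1213
import Cfsg.Prelude.Def_Transfer

/-!
# The derived group of an involution centralizer in quasi-dihedral or wreathed type groups (S1240)

`main`: from the S1216 statement (taken as a hypothesis) and S1213.
-/

set_option autoImplicit false

namespace Cfsg.Agent.H84.QDCent

open Subgroup

universe u

/-- The statement of S1216 in the form used here. -/
def NormalSLTwo : Prop :=
  ∀ (H : Type u) [Group H] [Finite H] (S : Sylow 2 H),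
    (Cfsg.IsQuasiDihedral (S : Subgroup H) ∨ Cfsg.IsWreathed (S : Subgroup H)) →
    Cfsg.oddCore H = ⊥ →
    ((∃ K : Subgroup H, K.Normal ∧ (∃ a : ℕ, K.index = 2 ^ a) ∧ (∀ M : Subgroup ↥K, M.index ≠ 2) ∧
        (∀ P : Sylow 2 ↥K, ∃ m : ℕ, 1 ≤ m ∧ Nonempty ((P : Subgroup ↥K) ≃* QuaternionGroup (2 ^ m)))) ∧
      (∀ Z₀ : Subgroup H, Z₀ ≤ ((center (S : Subgroup H)).map (S : Subgroup H).subtype) →
        Cfsg.IsWeaklyClosed Z₀ (S : Subgroup H))) →
    ∃ L₀ : Subgroup H, L₀.Normal ∧ ∃ (F : Type) (_ : Field F) (_ : Fintype F),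
      Odd (Fintype.card F) ∧ Nonempty (L₀ ≃* Matrix.SpecialLinearGroup (Fin 2) F)

theorem shape_congr {S T : Type*} [Group S] [Group T] (φ : S ≃* T)
    (h : Cfsg.IsQuasiDihedral S ∨ Cfsg.IsWreathed S) :
    Cfsg.IsQuasiDihedral T ∨ Cfsg.IsWreathed T := by
  rcases h with ⟨k, hk, hc, x, y, hx, hy, hxy⟩ | ⟨k, hk, hc, x, y, z, hx, hxy, hd, hz, hzx⟩
  · refine Or.inl ⟨k, hk, by rw [← Nat.card_congr φ.toEquiv, hc], φ x, φ y,
      by rw [φ.orderOf_eq, hx], by rw [φ.orderOf_eq, hy], ?_⟩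
    rw [← map_inv, ← map_mul, ← map_mul, hxy, map_pow]
  · refine Or.inr ⟨k, hk, by rw [← Nat.card_congr φ.toEquiv, hc], φ x, φ y, φ z,
      by rw [φ.orderOf_eq, hx], by rw [← map_mul, hxy, map_mul], ?_, by rw [φ.orderOf_eq, hz],
      by rw [← map_inv, ← map_mul, ← map_mul, hzx]⟩
    show zpowers (φ.toMonoidHom x) ⊓ zpowers (φ.toMonoidHom y) = ⊥
    rw [← φ.toMonoidHom.map_zpowers, ← φ.toMonoidHom.map_zpowers]
    rw [← Subgroup.map_inf _ _ φ.toMonoidHom φ.injective, hd, Subgroup.map_bot]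

variable {C : Type u} [Group C] [Finite C]

theorem inj_on_two_group (O : Subgroup C) [O.Normal] (hO : Odd (Nat.card O)) {P : Subgroup C}
    (hP : IsPGroup 2 P) :
    Function.Injective ((QuotientGroup.mk' O).comp P.subtype) := by
  haveI : Fact (Nat.Prime 2) := ⟨Nat.prime_two⟩
  refine (injective_iff_map_eq_one _).2 fun x hx => ?_
  have hxO : (x : C) ∈ O := (QuotientGroup.eq_one_iff _).1 hx
  obtain ⟨k, hk⟩ := hP x
  have h1 : orderOf (x : C) ∣ 2 ^ k :=
    orderOf_dvd_of_pow_eq_one (by rw [← Subgroup.coe_pow, hk, Subgroup.coe_one])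
  have h2 : orderOf (x : C) ∣ Nat.card O := O.orderOf_dvd_natCard hxO
  have := Nat.eq_one_of_dvd_coprimes ((Nat.coprime_two_left.2 hO).pow_left k) h1 h2
  exact Subtype.ext (orderOf_eq_one_iff.1 this)

/-- Quotient of a Sylow 2-subgroup by an odd normal subgroup. -/
noncomputable def sylowEquivMap (O : Subgroup C) [O.Normal] (hO : Odd (Nat.card O)) {P : Subgroup C}
    (hP : IsPGroup 2 P) : ↥P ≃* ↥(P.map (QuotientGroup.mk' O)) :=
  MulEquiv.ofBijective ((QuotientGroup.mk' O).subgroupMap P)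
    ⟨fun x y h => inj_on_two_group O hO hP (congrArg Subtype.val h),
      MonoidHom.subgroupMap_surjective _ _⟩

theorem derived_centralizer (h16 : NormalSLTwo.{u}) (R : Sylow 2 C)
    (hR : Cfsg.IsQuasiDihedral (R : Subgroup C) ∨ Cfsg.IsWreathed (R : Subgroup C))
    (hK : ∃ K : Subgroup C, K.Normal ∧ (∃ a : ℕ, K.index = 2 ^ a) ∧ (∀ M : Subgroup ↥K, M.index ≠ 2) ∧
      (∀ P : Sylow 2 ↥K, ∃ m : ℕ, 1 ≤ m ∧ Nonempty ((P : Subgroup ↥K) ≃* QuaternionGroup (2 ^ m))))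
    (hW : ∀ Z₀ : Subgroup C, Z₀ ≤ ((center (R : Subgroup C)).map (R : Subgroup C).subtype) →
      Cfsg.IsWeaklyClosed Z₀ (R : Subgroup C)) :
    ∃ (F : Type) (_ : Field F) (_ : Fintype F), Odd (Fintype.card F) ∧
      Nonempty (↥(commutator (C ⧸ Cfsg.oddCore C)) ≃* Matrix.SpecialLinearGroup (Fin 2) F) := by
  haveI : Fact (Nat.Prime 2) := ⟨Nat.prime_two⟩
  obtain ⟨K, hKn, ⟨a, ha⟩, hK2, hKq⟩ := hK
  haveI := hKn
  let O := Cfsg.oddCore C
  have hodd : Odd (Nat.card O) := Cores.odd_card_oddCore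
  let q : C →* C ⧸ O := QuotientGroup.mk' O
  have hq : Function.Surjective q := QuotientGroup.mk'_surjective O
  let R' : Sylow 2 (C ⧸ O) := R.mapSurjective (f := q) hq
  let eR : ↥(R : Subgroup C) ≃* ↥(R' : Subgroup (C ⧸ O)) := sylowEquivMap O hodd R.isPGroup'
  have hR' := shape_congr eR hR
  have hO' : Cfsg.oddCore (C ⧸ O) = ⊥ := Cores.pPrimeCore_quotient_pPrimeCore (p := 2)
  let K' : Subgroup (C ⧸ O) := K.map q
  haveI hK'n : K'.Normal := hKn.map q hq
  obtain ⟨b, -, hb⟩ := (Nat.dvd_prime_pow Nat.prime_two).1 (ha ▸ index_map_dvd K hq)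
  let π : ↥K →* ↥K' := q.subgroupMap K
  have hπ : Function.Surjective π := q.subgroupMap_surjective K
  have hK'2 : ∀ M : Subgroup ↥K', M.index ≠ 2 := fun M hM =>
    hK2 (M.comap π) (by rw [index_comap_of_surjective M hπ, hM])
  have hK'q : ∀ P : Sylow 2 ↥K', ∃ m : ℕ, 1 ≤ m ∧
      Nonempty ((P : Subgroup ↥K') ≃* QuaternionGroup (2 ^ m)) := by
    intro P'
    obtain ⟨P, rfl⟩ := Sylow.mapSurjective_surjective hπ 2 P'
    obtain ⟨m, hm, ⟨φ⟩⟩ := hKq P
    have hinj : Function.Injective (π.subgroupMap (P : Subgroup ↥K)) := by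
      intro x y h
      have h' : q (((x : ↥K) : C)) = q (((y : ↥K) : C)) :=
        congrArg (fun z : ↥((P : Subgroup ↥K).map π) => ((z : ↥K') : C ⧸ O)) h
      have hP : IsPGroup 2 ↥((P : Subgroup ↥K).map K.subtype) := P.isPGroup'.map _
      have := inj_on_two_group O hodd hP
        (a₁ := ⟨_, mem_map_of_mem K.subtype x.2⟩) (a₂ := ⟨_, mem_map_of_mem K.subtype y.2⟩) h'
      exact Subtype.ext (Subtype.ext (congrArg Subtype.val this :))
    exact ⟨m, hm, ⟨(MulEquiv.ofBijective _ ⟨hinj, π.subgroupMap_surjective _⟩).symm.trans φ⟩⟩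
  have hW' : ∀ Z₀ : Subgroup (C ⧸ O),
      Z₀ ≤ ((center (R' : Subgroup (C ⧸ O))).map (R' : Subgroup (C ⧸ O)).subtype) →
      Cfsg.IsWeaklyClosed Z₀ (R' : Subgroup (C ⧸ O)) := by
    intro Z₀ hZ₀
    have hZR : Z₀ ≤ (R' : Subgroup (C ⧸ O)) := hZ₀.trans (map_subtype_le _)
    refine ⟨hZR, fun g hg => ?_⟩
    let Z : Subgroup C := (R : Subgroup C) ⊓ Z₀.comap q
    have hZq : Z.map q = Z₀ := by
      refine le_antisymm (by rintro _ ⟨z, hz, rfl⟩; exact hz.2) fun z hz => ?_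
      obtain ⟨x, hx, rfl⟩ := hZR hz
      exact ⟨x, ⟨hx, hz⟩, rfl⟩
    have hZc : Z ≤ (center (R : Subgroup C)).map (R : Subgroup C).subtype := by
      rintro z ⟨hzR, hz⟩
      obtain ⟨c, hc, hcz⟩ := hZ₀ hz
      refine ⟨⟨z, hzR⟩, ?_, rfl⟩
      refine Subgroup.mem_center_iff.2 fun r => eR.injective ?_
      have : eR ⟨z, hzR⟩ = c := Subtype.ext hcz.symm
      rw [map_mul, map_mul, this]
      exact Subgroup.mem_center_iff.1 hc (eR r)
    obtain ⟨x, rfl⟩ := hq g
    let X : Subgroup C := (R' : Subgroup (C ⧸ O)).comap q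
    let W : Subgroup C := Z.map (MulAut.conj x).toMonoidHom
    have hWX : W ≤ X := by
      rintro _ ⟨z, hz, rfl⟩
      refine hg ⟨q z, hZq ▸ mem_map_of_mem q hz, ?_⟩
      simp [MulAut.conj_apply]
    have hRX : (R : Subgroup C) ≤ X := fun r hr => mem_map_of_mem q hr
    have hWp : IsPGroup 2 W := (R.isPGroup'.to_le inf_le_left).map _
    obtain ⟨P, hP⟩ := (hWp.comap_of_injective X.subtype X.subtype_injective).exists_le_sylow
    obtain ⟨y, hy⟩ := MulAction.exists_smul_eq ↥X P (R.subtype hRX)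
    have hle : Z.map (MulAut.conj ((y : C) * x)).toMonoidHom ≤ (R : Subgroup C) := by
      rintro _ ⟨z, hz, rfl⟩
      have hw : (⟨_, hWX (mem_map_of_mem (MulAut.conj x).toMonoidHom hz)⟩ : ↥X) ∈ (P : Subgroup ↥X) :=
        hP (mem_map_of_mem (MulAut.conj x).toMonoidHom hz)
      have hm : MulAut.conj y ⟨_, hWX (mem_map_of_mem (MulAut.conj x).toMonoidHom hz)⟩ ∈
          ((R.subtype hRX : Sylow 2 ↥X) : Subgroup ↥X) := by
        rw [← hy]
        exact mem_map_of_mem _ hw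
      rw [Sylow.coe_subtype, mem_subgroupOf] at hm
      simpa [MulAut.conj_apply, mul_assoc] using hm
    have heq := (hW Z hZc).2 _ hle
    have heq' : (Z.map (MulAut.conj ((y : C) * x)).toMonoidHom).map q = Z₀ := by rw [heq, hZq]
    have hcomm : q.comp (MulAut.conj ((y : C) * x)).toMonoidHom =
        ((MulAut.conj (q y)).toMonoidHom.comp (MulAut.conj (q x)).toMonoidHom).comp q :=
      MonoidHom.ext fun z => by simp [MulAut.conj_apply, mul_assoc]
    rw [Subgroup.map_map, hcomm, ← Subgroup.map_map, ← Subgroup.map_map, hZq] at heq'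
    have hy' : q (y : C) ∈ (R' : Subgroup (C ⧸ O)) := y.2
    refine Subgroup.eq_of_le_of_card_ge ?_ (Subgroup.card_map_of_injective (MulAut.conj (q x)).injective).ge
    intro w hw
    have h1 : MulAut.conj (q (y : C)) w ∈ Z₀ :=
      heq' ▸ mem_map_of_mem (MulAut.conj (q (y : C))).toMonoidHom hw
    obtain ⟨c, hc, hcv⟩ := hZ₀ h1
    have hcc : q (y : C) * MulAut.conj (q (y : C)) w = MulAut.conj (q (y : C)) w * q (y : C) := by
      rw [← hcv]; exact congrArg Subtype.val (Subgroup.mem_center_iff.1 hc ⟨_, hy'⟩)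
    rw [MulAut.conj_apply, mul_assoc (q (y : C) * w), inv_mul_cancel, mul_one] at hcc
    have hw' := mul_left_cancel hcc
    rw [MulAut.conj_apply] at h1
    rwa [hw'] at h1
  obtain ⟨L, hL, F, hF, hF', hFodd, ⟨e⟩⟩ :=
    h16 (C ⧸ O) R' hR' hO' ⟨⟨K', hK'n, ⟨b, hb⟩, hK'2, hK'q⟩, hW'⟩
  haveI := hL
  exact ⟨F, hF, hF', hFodd, ⟨(MulEquiv.subgroupCongr
    (derived_eq R' hR' hO' K' b hb hK'q L hFodd e)).trans e⟩⟩

/-- The statement of S1240. -/
theorem main (h16 : NormalSLTwo.{u}) {G : Type u} [Group G] [Finite G] (S : Sylow 2 G)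
    (hS : Cfsg.IsQuasiDihedral (S : Subgroup G) ∨ Cfsg.IsWreathed (S : Subgroup G))
    (hG : ∀ H : Subgroup G, H.index ≠ 2) (t : G) (ht : orderOf t = 2) :
    ∃ (F : Type) (_ : Field F) (_ : Fintype F), Odd (Fintype.card F) ∧
      Nonempty (↥(commutator (↥(centralizer ({t} : Set G)) ⧸
        Cfsg.oddCore ↥(centralizer ({t} : Set G)))) ≃* Matrix.SpecialLinearGroup (Fin 2) F) := by
  haveI : Fact (Nat.Prime 2) := ⟨Nat.prime_two⟩
  obtain ⟨R, hcard, hK, hW⟩ := S1213.result S hS hG t ht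
  let P : Subgroup G := (R : Subgroup _).map (centralizer ({t} : Set G)).subtype
  have hP : Nat.card P = 2 ^ (Nat.card G).factorization 2 := by
    rw [Subgroup.card_map_of_injective (centralizer ({t} : Set G)).subtype_injective, ← S.card_eq_multiplicity]
    exact hcard
  let T : Sylow 2 G := Sylow.ofCard P hP
  let φ : ↥(S : Subgroup G) ≃* ↥(R : Subgroup ↥(centralizer ({t} : Set G))) :=
    (S.equiv T).trans (((R : Subgroup _).equivMapOfInjective _
      (centralizer ({t} : Set G)).subtype_injective).symm)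
  exact derived_centralizer h16 R (shape_congr φ hS) hK hW

end Cfsg.Agent.H84.QDCent
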