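import Mathlib
import Cfsg.Prelude.Def_CaseTheorems
import Cfsg.Agent.H39.SemiDihedral
import Cfsg.Agent.H39.Wreath

/-!
# Facts on quaternion, quasi-dihedral and wreathed 2-groups for S1240
-/

set_option autoImplicit false

namespace Cfsg.Agent.H84.QDCent

open Subgroup

section quaternion

variable {m : ℕ} [NeZero m]

/-- An element centralising two non-commuting elements of a quaternion group squares to `1`. -/
theorem quaternion_sq_eq_one {x g h : QuaternionGroup m} (hg : Commute x g) (hh : Commute x h)
    (hgh : ¬ Commute g h) : x * x = 1 := by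
  rcases x with i | i <;> rcases g with j | j <;> rcases h with k | k <;>
    simp only [Commute, SemiconjBy, QuaternionGroup.a_mul_a, QuaternionGroup.a_mul_xa,
      QuaternionGroup.xa_mul_a, QuaternionGroup.xa_mul_xa, QuaternionGroup.one_def,
      QuaternionGroup.a.injEq, QuaternionGroup.xa.injEq] at hg hh hgh ⊢
  · exact absurd (add_comm j k) hgh
  · linear_combination hh.symm
  · linear_combination hg.symm
  · linear_combination hg.symm
  · exact absurd (add_comm j k) hgh
  · exact absurd (by linear_combination -hg) hgh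
  · exact absurd (by linear_combination hh) hgh
  · exact absurd (by linear_combination hh - hg) hgh

/-- A quaternion group has at most one involution. -/
theorem quaternion_involution_unique {u t : QuaternionGroup m} (hu : u * u = 1) (ht : t * t = 1)
    (hu1 : u ≠ 1) (ht1 : t ≠ 1) : u = t := by
  have key : ∀ v : QuaternionGroup m, v * v = 1 → v ≠ 1 →
      v = QuaternionGroup.a (m : ZMod (2 * m)) := by
    intro v hv hv1
    rcases v with i | i
    · rw [QuaternionGroup.a_mul_a, QuaternionGroup.one_def, QuaternionGroup.a.injEq] at hv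
      rw [QuaternionGroup.a.injEq]
      have hd : 2 * m ∣ i.val + i.val := by
        rw [← ZMod.natCast_eq_zero_iff]; push_cast; rw [ZMod.natCast_zmod_val, hv]
      have hlt := ZMod.val_lt i
      have hne : i.val ≠ 0 := fun h0 => hv1 (by
        rw [QuaternionGroup.one_def, (ZMod.val_eq_zero i).1 h0])
      rw [← two_mul] at hd
      obtain ⟨c, hc⟩ := Nat.dvd_of_mul_dvd_mul_left two_pos hd
      have : c = 1 := by
        rcases c with _ | _ | c
        · rw [Nat.mul_zero] at hc; exact absurd hc hne
        · rfl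
        · exfalso; rw [hc, mul_comm 2 m] at hlt
          have := Nat.lt_of_mul_lt_mul_left hlt; omega
      rw [this, mul_one] at hc
      exact (ZMod.natCast_zmod_val i).symm.trans (congrArg Nat.cast hc)
    · rw [QuaternionGroup.xa_mul_xa, add_sub_cancel_right, QuaternionGroup.one_def,
        QuaternionGroup.a.injEq] at hv
      exact absurd ((ZMod.natCast_eq_zero_iff _ _).1 hv) (fun h => by
        have := Nat.le_of_dvd (Nat.pos_of_ne_zero (NeZero.ne m)) h
        have := NeZero.ne m; omega)
  rw [key u hu hu1, key t ht ht1]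

end quaternion

section QD

variable {S : Type*} [Group S]

/-- A quasi-dihedral or wreathed group has an abelian subgroup of index 2 and a commutator of order
at least 4. -/
theorem abelian_and_commutator (hS : Cfsg.IsQuasiDihedral S ∨ Cfsg.IsWreathed S) :
    (∃ B : Subgroup S, IsMulCommutative B ∧ B.index = 2) ∧
      ∃ a b : S, a * b * a⁻¹ * b⁻¹ * (a * b * a⁻¹ * b⁻¹) ≠ 1 := by
  rcases hS with hS | hS
  · obtain ⟨m, x, y, h⟩ := H39.exists_sdGen hS
    refine ⟨⟨zpowers x, inferInstance, h.index_zpowers⟩, y, x, ?_⟩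
    intro he
    have hc : y * x * y⁻¹ * x⁻¹ = x ^ (4 * 2 ^ m - 2 : ℤ) := by
      have h1 := h.conj_zpow_x 1
      rw [zpow_one, one_mul] at h1
      rw [h1, ← zpow_neg_one, ← zpow_add]
      congr 1; ring
    rw [hc, ← zpow_add, ← zpow_zero x, h.zpow_eq] at he
    obtain ⟨c, hc'⟩ := he
    have hM : (0 : ℤ) < 2 ^ m := by positivity
    have : (1 : ℤ) = 2 * (2 ^ m * (1 - c)) := by linarith
    omega
  · obtain ⟨m, x, y, z, h⟩ := H39.exists_wGen hS
    refine ⟨⟨h.base, ?_, h.index_base⟩, z, x, ?_⟩
    · refine ⟨⟨?_⟩⟩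
      rintro ⟨_, a, b, rfl⟩ ⟨_, c, d, rfl⟩
      refine Subtype.ext ?_
      show x ^ a * y ^ b * (x ^ c * y ^ d) = x ^ c * y ^ d * (x ^ a * y ^ b)
      rw [h.mul_in, h.mul_in, add_comm a, add_comm b]
    · intro he
      have hc : z * x * z⁻¹ * x⁻¹ = x ^ (-1 : ℤ) * y ^ (1 : ℤ) := by
        rw [h.swap, zpow_one, zpow_neg_one, (h.comm.symm.inv_right).eq]
      rw [hc, h.mul_in, h.pq_eq_one] at he
      obtain ⟨c, hc'⟩ := he.2
      have : (1 : ℤ) = 2 * (2 ^ m * c) := by linarith
      omega

end QD

end Cfsg.Agent.H84.QDCent
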